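import Mathlib

/-!
# Open continuous surjections and (locally) Noetherian spaces (helper3)
-/

set_option autoImplicit false
universe u
open TopologicalSpace Set

namespace Groth.Agent.H3.TopAux

variable {X Y : Type*} [TopologicalSpace X] [TopologicalSpace Y]

/-- every point has a Noetherian open neighbourhood -/
def LocNoeth (X : Type*) [TopologicalSpace X] : Prop :=
  ∀ x : X, ∃ U : Set X, IsOpen U ∧ x ∈ U ∧ NoetherianSpace U

theorem noetherianSpace_image (f : X → Y) (hc : Continuous f) (W : Set X) [hW : NoetherianSpace W] :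
    NoetherianSpace (f '' W) := by
  rw [noetherianSpace_set_iff] at hW ⊢
  intro t ht
  have h1 : t = f '' (W ∩ f ⁻¹' t) := by
    ext y
    constructor
    · intro hy
      obtain ⟨x, hx, rfl⟩ := ht hy
      exact ⟨x, ⟨hx, hy⟩, rfl⟩
    · rintro ⟨x, ⟨-, hx⟩, rfl⟩
      exact hx
  rw [h1]
  exact (hW _ inter_subset_left).image hc

theorem locNoeth_of_open_surjective (f : X → Y) (hc : Continuous f) (ho : IsOpenMap f)
    (hs : Function.Surjective f) (hX : LocNoeth X) : LocNoeth Y := by
  intro y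
  obtain ⟨x, rfl⟩ := hs y
  obtain ⟨U, hU, hxU, hN⟩ := hX x
  exact ⟨f '' U, ho U hU, ⟨x, hxU, rfl⟩, noetherianSpace_image f hc U⟩

theorem noetherianSpace_of_compact_locNoeth [CompactSpace Y] (h : LocNoeth Y) :
    NoetherianSpace Y := by
  choose U hU hyU hN using h
  obtain ⟨t, ht⟩ := isCompact_univ.elim_finite_subcover U hU
    (fun y _ => mem_iUnion.2 ⟨y, hyU y⟩)
  rw [← noetherian_univ_iff]
  have h1 : (univ : Set Y) = ⋃ i : t, U i.1 := by
    apply Subset.antisymm
    · intro y hy
      obtain ⟨i, hi⟩ := mem_iUnion.1 (ht hy)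
      obtain ⟨hit, hyi⟩ := mem_iUnion.1 hi
      exact mem_iUnion.2 ⟨⟨i, hit⟩, hyi⟩
    · exact subset_univ _
  rw [h1]
  have : ∀ i : t, NoetherianSpace (U i.1) := fun i => hN i.1
  exact NoetherianSpace.iUnion _

/-- the image of a quasi-sober locally Noetherian space under an open continuous surjection is
quasi-sober -/
theorem quasiSober_of_open_surjective (f : X → Y) (hc : Continuous f) (ho : IsOpenMap f)
    (hs : Function.Surjective f) [QuasiSober X] (hX : LocNoeth X) : QuasiSober Y := by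
  refine ⟨fun {T} hT hTc => ?_⟩
  obtain ⟨y, hy⟩ := hT.nonempty
  obtain ⟨x, rfl⟩ := hs y
  obtain ⟨V, hV, hxV, hN⟩ := hX x
  -- `V' = V ∩ f⁻¹ T`
  obtain ⟨V', hV'def⟩ : ∃ V' : Set X, V' = V ∩ f ⁻¹' T := ⟨_, rfl⟩
  have hV'N : NoetherianSpace V' := by
    rw [noetherianSpace_set_iff] at hN ⊢
    intro t ht
    exact hN t (ht.trans (hV'def ▸ inter_subset_left))
  have hV'Q : QuasiSober V' := by
    have : QuasiSober V := hV.isOpenEmbedding_subtypeVal.quasiSober
    rw [hV'def]
    exact QuasiSober.inter_of_isClosed_of_quasiSober_left V (hTc.preimage hc)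
  -- the finitely many irreducible components of `V'`
  have hfin : (irreducibleComponents V').Finite := NoetherianSpace.finite_irreducibleComponents
  -- `T` is the closure of `f (V')`
  have hfV' : f '' V' = f '' V ∩ T := by
    rw [hV'def]
    ext z
    constructor
    · rintro ⟨w, ⟨hw1, hw2⟩, rfl⟩
      exact ⟨⟨w, hw1, rfl⟩, hw2⟩
    · rintro ⟨⟨w, hw1, rfl⟩, hw2⟩
      exact ⟨w, ⟨hw1, hw2⟩, rfl⟩
  have hdense : T ⊆ closure (f '' V') := by
    rw [hfV']
    have h1 : (T ∩ f '' V).Nonempty := ⟨f x, hy, x, hxV, rfl⟩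
    have := subset_closure_inter_of_isPreirreducible_of_isOpen hT.isPreirreducible (ho V hV) h1
    rwa [inter_comm] at this
  -- cover by the closures of the images of the components
  classical
  obtain ⟨g, hgdef⟩ : ∃ g : Set V' → Set Y, g = fun C => closure (f '' (Subtype.val '' C)) :=
    ⟨_, rfl⟩
  have hcover : T ⊆ ⋃₀ ↑(hfin.toFinset.image g) := by
    intro z hz
    have hz' := hdense hz
    have h2 : f '' V' ⊆ ⋃₀ ↑(hfin.toFinset.image g) := by
      rintro _ ⟨w, hw, rfl⟩
      have hw' : (⟨w, hw⟩ : V') ∈ ⋃₀ irreducibleComponents V' := by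
        rw [sUnion_irreducibleComponents]; trivial
      obtain ⟨C, hC, hwC⟩ := hw'
      refine ⟨g C, ?_, ?_⟩
      · rw [Finset.mem_coe, Finset.mem_image]
        exact ⟨C, (Finite.mem_toFinset hfin).2 hC, rfl⟩
      · rw [hgdef]
        exact subset_closure ⟨w, ⟨⟨w, hw⟩, hwC, rfl⟩, rfl⟩
    have h3 : IsClosed (⋃₀ (↑(hfin.toFinset.image g) : Set (Set Y))) := by
      rw [sUnion_eq_biUnion]
      apply isClosed_biUnion_finset
      intro z hz
      rw [Finset.mem_image] at hz
      obtain ⟨C, -, rfl⟩ := hz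
      rw [hgdef]
      exact isClosed_closure
    exact (closure_minimal h2 h3) hz'
  obtain ⟨z, hz, hTz⟩ := (isIrreducible_iff_sUnion_isClosed.1 hT) (hfin.toFinset.image g)
    (by
      intro z hz
      rw [Finset.mem_image] at hz
      obtain ⟨C, -, rfl⟩ := hz
      rw [hgdef]
      exact isClosed_closure) hcover
  rw [Finset.mem_image] at hz
  obtain ⟨C, hC, rfl⟩ := hz
  rw [Finite.mem_toFinset] at hC
  have hTC : T ⊆ closure (f '' (Subtype.val '' C)) := by rw [hgdef] at hTz; exact hTz
  -- the generic point of `C`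
  have hCirr : IsIrreducible C := hC.1
  have hCcl : IsClosed C := isClosed_of_mem_irreducibleComponents C hC
  obtain ⟨ξ, hξ⟩ := QuasiSober.sober hCirr hCcl
  refine ⟨f ξ.1, ?_⟩
  have hξT : f ξ.1 ∈ T := by
    have h0 : ξ.1 ∈ V ∩ f ⁻¹' T := hV'def ▸ ξ.2
    exact h0.2
  apply Subset.antisymm
  · exact closure_minimal (singleton_subset_iff.2 hξT) hTc
  · refine hTC.trans (closure_minimal ?_ isClosed_closure)
    rintro _ ⟨_, ⟨c, hc', rfl⟩, rfl⟩
    -- `c ∈ C = closure {ξ}`
    have h1 : c ∈ closure ({ξ} : Set V') := by rw [hξ.def]; exact hc'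
    have h2 : (c : X) ∈ closure ({ξ.1} : Set X) := by
      have := image_closure_subset_closure_image (continuous_subtype_val (p := (· ∈ V')))
        (mem_image_of_mem Subtype.val h1)
      rwa [image_singleton] at this
    have h3 := image_closure_subset_closure_image hc (mem_image_of_mem f h2)
    rwa [image_singleton] at h3

end Groth.Agent.H3.TopAux
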