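import Mathlib

/-!
# Noetherian induction for compactness of a space over a Noetherian space (helper3)
-/

set_option autoImplicit false
open TopologicalSpace

namespace Groth.Agent.H3.NoethCompact

variable {X Y : Type*} [TopologicalSpace X] [TopologicalSpace Y]

/-- **Noetherian induction for compactness.** Let `π : Y → X` be a map to a Noetherian space such
that every irreducible closed `Z ⊆ X` contains a nonempty relatively open `U` with compact preimage.
Then the preimage of every closed subset is compact. -/
theorem isCompact_preimage_of_noetherian [NoetherianSpace X] (π : Y → X)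
    (h : ∀ Z : Set X, IsClosed Z → IsIrreducible Z →
      ∃ U ⊆ Z, U.Nonempty ∧ IsClosed (Z \ U) ∧ IsCompact (π ⁻¹' U)) :
    ∀ Z : Closeds X, IsCompact (π ⁻¹' (Z : Set X)) := by
  intro Z
  induction Z using WellFoundedLT.induction with
  | ind Z ih =>
    by_cases hZ : IsIrreducible (Z : Set X)
    · obtain ⟨U, hUZ, hUne, hcl, hUc⟩ := h Z Z.isClosed hZ
      have hlt : (⟨(Z : Set X) \ U, hcl⟩ : Closeds X) < Z := by
        refine lt_of_le_of_ne (fun x hx => hx.1) ?_
        intro heq
        obtain ⟨u, hu⟩ := hUne
        have h1 : u ∈ ((⟨(Z : Set X) \ U, hcl⟩ : Closeds X) : Set X) := by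
          rw [heq]; exact hUZ hu
        exact h1.2 hu
      have h2 := ih _ hlt
      have h3 : π ⁻¹' (Z : Set X) = π ⁻¹' U ∪ π ⁻¹' ((Z : Set X) \ U) := by
        rw [← Set.preimage_union, Set.union_diff_cancel hUZ]
      rw [h3]
      exact hUc.union h2
    · by_cases hne : (Z : Set X).Nonempty
      · -- not irreducible and nonempty: split
        have hnp : ¬ IsPreirreducible (Z : Set X) := fun hp => hZ ⟨hne, hp⟩
        rw [isPreirreducible_iff_isClosed_union_isClosed] at hnp
        push Not at hnp
        obtain ⟨Z₁, Z₂, hZ₁, hZ₂, hsub, hn1, hn2⟩ := hnp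
        have l1 : (⟨Z₁ ∩ Z, hZ₁.inter Z.isClosed⟩ : Closeds X) < Z := by
          refine lt_of_le_of_ne (fun x hx => hx.2) ?_
          intro heq
          apply hn1
          intro x hx
          have : x ∈ ((⟨Z₁ ∩ Z, hZ₁.inter Z.isClosed⟩ : Closeds X) : Set X) := by rw [heq]; exact hx
          exact this.1
        have l2 : (⟨Z₂ ∩ Z, hZ₂.inter Z.isClosed⟩ : Closeds X) < Z := by
          refine lt_of_le_of_ne (fun x hx => hx.2) ?_
          intro heq
          apply hn2
          intro x hx
          have : x ∈ ((⟨Z₂ ∩ Z, hZ₂.inter Z.isClosed⟩ : Closeds X) : Set X) := by rw [heq]; exact hx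
          exact this.1
        have h3 : π ⁻¹' (Z : Set X) = π ⁻¹' (Z₁ ∩ Z) ∪ π ⁻¹' (Z₂ ∩ Z) := by
          rw [← Set.preimage_union, ← Set.union_inter_distrib_right,
            Set.inter_eq_self_of_subset_right hsub]
        rw [h3]
        exact (ih _ l1).union (ih _ l2)
      · rw [Set.not_nonempty_iff_eq_empty] at hne
        rw [hne, Set.preimage_empty]
        exact isCompact_empty

/-- the total space is compact -/
theorem compactSpace_of_noetherian [NoetherianSpace X] (π : Y → X)
    (h : ∀ Z : Set X, IsClosed Z → IsIrreducible Z →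
      ∃ U ⊆ Z, U.Nonempty ∧ IsClosed (Z \ U) ∧ IsCompact (π ⁻¹' U)) : CompactSpace Y := by
  constructor
  have := isCompact_preimage_of_noetherian π h ⊤
  simpa using this

end Groth.Agent.H3.NoethCompact
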